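import Mathlib

/-!
Products of matrices over the field with seven elements by packed rows.
-/

set_option autoImplicit false

namespace CfsgLib.PackMat

/-- a row in base 1024 -/
def pack : List ℕ → ℕ
  | [] => 0
  | a :: l => a + 1024 * pack l

/-- the first digits in base 1024, reduced modulo seven -/
def unpack : ℕ → ℕ → List ℕ
  | 0, _ => []
  | k + 1, n => (n % 1024) % 7 :: unpack k (n / 1024)

/-- a combination of packed rows -/
def comb : List ℕ → List ℕ → ℕ
  | c :: cs, P :: Ps => c * P + comb cs Ps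
  | _, _ => 0

/-- the coordinates of a combination -/
def entry (cs : List ℕ) (B : List (List ℕ)) (j : ℕ) : ℕ :=
  ((cs.zip B).map fun z => z.1 * z.2.getD j 0).sum

theorem getD_unpack : ∀ (k n j : ℕ), j < k → (unpack k n).getD j 0 = (n / 1024 ^ j % 1024) % 7
  | 0, _, _, h => absurd h (Nat.not_lt_zero _)
  | k + 1, n, 0, _ => by simp [unpack]
  | k + 1, n, j + 1, h => by
    rw [unpack, List.getD_cons_succ, getD_unpack k _ j (by omega), Nat.div_div_eq_div_mul, pow_succ']

theorem length_unpack : ∀ k n, (unpack k n).length = k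
  | 0, _ => rfl
  | k + 1, n => by simp [unpack, length_unpack k]

theorem lt_unpack : ∀ k n, ∀ x ∈ unpack k n, x < 7
  | 0, _, x, h => by simp [unpack] at h
  | k + 1, n, x, h => by
    simp only [unpack, List.mem_cons] at h
    rcases h with rfl | h
    · omega
    · exact lt_unpack k _ x h

theorem sum_range_succ' (f : ℕ → ℕ) (n : ℕ) :
    ∑ j ∈ Finset.range (n + 1), f j = f 0 + ∑ j ∈ Finset.range n, f (j + 1) := by
  rw [Finset.sum_range_succ', add_comm]

theorem pack_eq_sum : ∀ (l : List ℕ) (n : ℕ), l.length ≤ n →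
    pack l = ∑ j ∈ Finset.range n, l.getD j 0 * 1024 ^ j
  | [], n, _ => by simp [pack]
  | a :: l, 0, h => by simp at h
  | a :: l, n + 1, h => by
    rw [pack, sum_range_succ', pack_eq_sum l n (by simpa using h), Finset.mul_sum]
    simp only [List.getD_cons_zero, pow_zero, mul_one, List.getD_cons_succ]
    congr 1
    exact Finset.sum_congr rfl fun j _ => by ring

theorem comb_eq_sum : ∀ (cs : List ℕ) (B : List (List ℕ)) (n : ℕ), (∀ r ∈ B, r.length ≤ n) →
    comb cs (B.map pack) = ∑ j ∈ Finset.range n, entry cs B j * 1024 ^ j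
  | [], B, n, _ => by simp [comb, entry]
  | c :: cs, [], n, _ => by simp [comb, entry]
  | c :: cs, r :: B, n, h => by
    rw [List.map_cons, comb, pack_eq_sum r n (h r List.mem_cons_self),
      comb_eq_sum cs B n fun x hx => h x (List.mem_cons_of_mem _ hx), Finset.mul_sum,
      ← Finset.sum_add_distrib]
    refine Finset.sum_congr rfl fun j _ => ?_
    simp only [entry, List.zip_cons_cons, List.map_cons, List.sum_cons]
    ring

theorem digit_sum (f : ℕ → ℕ) : ∀ (n j : ℕ), j < n → (∀ i, f i < 1024) →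
    (∑ i ∈ Finset.range n, f i * 1024 ^ i) / 1024 ^ j % 1024 = f j := by
  intro n
  induction n generalizing f with
  | zero => intro j h; exact absurd h (Nat.not_lt_zero _)
  | succ n ih =>
    intro j hj hf
    have e : ∑ i ∈ Finset.range n, f (i + 1) * 1024 ^ (i + 1) =
        1024 * ∑ i ∈ Finset.range n, f (i + 1) * 1024 ^ i := by
      rw [Finset.mul_sum]; exact Finset.sum_congr rfl fun i _ => by ring
    rw [sum_range_succ', pow_zero, mul_one, e]
    rcases j with _ | j
    · rw [pow_zero, Nat.div_one, Nat.add_mul_mod_self_left, Nat.mod_eq_of_lt (hf 0)]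
    · rw [pow_succ', ← Nat.div_div_eq_div_mul, Nat.add_mul_div_left _ _ (by norm_num),
        Nat.div_eq_of_lt (hf 0), zero_add, ih (fun i => f (i + 1)) j (by omega) fun i => hf _]

/-- twelve rows of twelve reduced entries -/
def shapeOK (A : List (List ℕ)) : Bool :=
  Nat.beq A.length 12 && A.all fun r => Nat.beq r.length 12 && r.all fun x => Nat.blt x 7

/-- the matrix of a list of rows -/
def mat (A : List (List ℕ)) : Matrix (Fin 12) (Fin 12) (ZMod 7) :=
  fun i j => (((A.getD i []).getD j 0 : ℕ) : ZMod 7)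

/-- a product -/
def mulM (A B : List (List ℕ)) : List (List ℕ) :=
  (fun Bp => A.map fun r => unpack 12 (comb r Bp)) (B.map pack)

theorem shape_spec {A : List (List ℕ)} (h : shapeOK A = true) :
    A.length = 12 ∧ ∀ r ∈ A, r.length = 12 ∧ ∀ x ∈ r, x < 7 := by
  simp only [shapeOK, Bool.and_eq_true, List.all_eq_true, Nat.blt_eq] at h
  exact ⟨Nat.eq_of_beq_eq_true h.1, fun r hr => ⟨Nat.eq_of_beq_eq_true (h.2 r hr).1, (h.2 r hr).2⟩⟩

theorem shape_mul {A : List (List ℕ)} (B : List (List ℕ)) (hA : shapeOK A = true) :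
    shapeOK (mulM A B) = true := by
  obtain ⟨hl, -⟩ := shape_spec hA
  simp only [shapeOK, mulM, Bool.and_eq_true, List.all_eq_true, Nat.blt_eq, List.mem_map,
    List.length_map, hl, Nat.beq_refl, true_and]
  rintro _ ⟨r, -, rfl⟩
  exact ⟨by rw [length_unpack]; rfl, lt_unpack _ _⟩

theorem getD_lt {r : List ℕ} (h : ∀ x ∈ r, x < 7) (j : ℕ) : r.getD j 0 < 7 := by
  rcases Nat.lt_or_ge j r.length with hj | hj
  · rw [List.getD_eq_getElem _ _ hj]; exact h _ (List.getElem_mem hj)
  · rw [List.getD_eq_default _ _ hj]; norm_num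

theorem entry_le : ∀ (cs : List ℕ) (B : List (List ℕ)) (j : ℕ), (∀ x ∈ cs, x < 7) →
    (∀ r ∈ B, ∀ x ∈ r, x < 7) → entry cs B j ≤ 36 * cs.length
  | [], B, j, _, _ => by simp [entry]
  | c :: cs, [], j, _, _ => by simp [entry]
  | c :: cs, r :: B, j, hc, hB => by
    have h1 := entry_le cs B j (fun x hx => hc x (List.mem_cons_of_mem _ hx))
      fun x hx => hB x (List.mem_cons_of_mem _ hx)
    have h2 : c * r.getD j 0 ≤ 6 * 6 :=
      Nat.mul_le_mul (Nat.le_of_lt_succ (hc c List.mem_cons_self))
        (Nat.le_of_lt_succ (getD_lt (hB r List.mem_cons_self) j))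
    simp only [entry, List.zip_cons_cons, List.map_cons, List.sum_cons, List.length_cons] at h1 ⊢
    omega

theorem entry_eq_sum : ∀ (cs : List ℕ) (B : List (List ℕ)) (j n : ℕ), cs.length = n → B.length = n →
    entry cs B j = ∑ k ∈ Finset.range n, cs.getD k 0 * (B.getD k []).getD j 0
  | [], [], j, 0, _, _ => by simp [entry]
  | [], _, j, n + 1, h, _ => by simp at h
  | _ :: _, _, j, 0, h, _ => by simp at h
  | _ :: _, [], j, n + 1, _, h => by simp at h
  | c :: cs, r :: B, j, n + 1, hc, hB => by
    have ih := entry_eq_sum cs B j n (by simpa using hc) (by simpa using hB)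
    simp only [entry, List.zip_cons_cons, List.map_cons, List.sum_cons] at ih ⊢
    rw [sum_range_succ', ih]
    simp

theorem mat_mul {A B : List (List ℕ)} (hA : shapeOK A = true) (hB : shapeOK B = true) :
    mat (mulM A B) = mat A * mat B := by
  obtain ⟨hAl, hAr⟩ := shape_spec hA
  obtain ⟨hBl, hBr⟩ := shape_spec hB
  ext i j
  have hi : (i : ℕ) < A.length := by omega
  obtain ⟨hrl, hrb⟩ := hAr A[(i : ℕ)] (List.getElem_mem hi)
  have hlt : ∀ k, entry A[(i : ℕ)] B k < 1024 := fun k => by
    have := entry_le A[(i : ℕ)] B k hrb fun r hr => (hBr r hr).2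
    omega
  have e : ((mulM A B).getD i []).getD j 0 = entry A[(i : ℕ)] B j % 7 := by
    rw [show (mulM A B).getD i [] = unpack 12 (comb A[(i : ℕ)] (B.map pack)) by
        simp [mulM, List.getD_eq_getElem?_getD, hi],
      getD_unpack 12 _ _ j.2, comb_eq_sum _ B 12 (fun r hr => (hBr r hr).1.le),
      digit_sum (fun k => entry A[(i : ℕ)] B k) 12 _ j.2 hlt]
  rw [Matrix.mul_apply]
  show ((((mulM A B).getD i []).getD j 0 : ℕ) : ZMod 7) = _
  rw [e, ZMod.natCast_mod, entry_eq_sum _ B j 12 hrl hBl, Nat.cast_sum, ← Fin.sum_univ_eq_sum_range]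
  refine Finset.sum_congr rfl fun k _ => ?_
  rw [Nat.cast_mul]
  simp only [mat]
  rw [List.getD_eq_getElem A _ hi]

/-- a scalar matrix -/
def scalM (s : ℕ) : List (List ℕ) :=
  (List.range 12).map fun i => (List.range 12).map fun j => if Nat.beq i j then s % 7 else 0

theorem mat_scal (s : ℕ) : mat (scalM s) = Matrix.scalar (Fin 12) (s : ZMod 7) := by
  ext i j
  have e : ((scalM s).getD i []).getD j 0 = if i = j then s % 7 else 0 := by
    rw [show (scalM s).getD i [] = (List.range 12).map fun j => if Nat.beq i j then s % 7 else 0 by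
        simp [scalM, List.getD_eq_getElem?_getD, i.2],
      show ((List.range 12).map fun k => if Nat.beq i k then s % 7 else 0).getD j 0 =
          if Nat.beq i j then s % 7 else 0 by simp [List.getD_eq_getElem?_getD, j.2]]
    by_cases h : i = j
    · simp [h]
    · rw [if_neg h, if_neg]
      exact fun hb => h (Fin.ext (Nat.eq_of_beq_eq_true hb))
  show ((((scalM s).getD i []).getD j 0 : ℕ) : ZMod 7) = _
  rw [e, Matrix.scalar_apply]
  by_cases h : i = j
  · subst h; rw [if_pos rfl, ZMod.natCast_mod, Matrix.diagonal_apply_eq]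
  · rw [if_neg h, Matrix.diagonal_apply_ne _ h, Nat.cast_zero]

end CfsgLib.PackMat
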